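import Cfsg.Agent.H45.CVN.Tool
import Cfsg.Agent.H416.CV.Cen

/-!
# S3442: the element for even `m ≥ 8` (helper45)

* `mm_ge_eight` : existence of the element `M = N * N` in `GL_m(q)` with `Big q m (orderOf M)`.
-/

set_option autoImplicit false
set_option linter.unusedSectionVars false
set_option linter.unusedVariables false

namespace Cfsg.Agent.H45.CVN

open Matrix Polynomial Cfsg.Agent.H416.CV

section

open scoped Classical

variable {F : Type*} [Field F] [Fintype F]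

local notation "𝕂" => AlgebraicClosure F
local notation "𝕢" => Fintype.card F

/-! ### products over orbits -/

theorem prod_orb {a : 𝕂} (ha : a ≠ 0) (φ : 𝕂 → 𝕂) :
    ∏ x ∈ orb a, φ x = ∏ i ∈ Finset.range (deg a), φ (a ^ 𝕢 ^ i) := by
  unfold orb
  rw [Finset.prod_image]
  intro i hi j hj h
  have h1 := (pow_eq_iff ha i j).1 h
  rw [Finset.coe_range, Set.mem_Iio] at hi hj
  exact Nat.ModEq.eq_of_lt_of_lt h1 hi hj

theorem prod_theta {m : ℕ} {S : Finset 𝕂} {θ : Fin m → 𝕂} (hθ : Function.Injective θ) (hS : ∀ a, a ∈ S ↔ ∃ j, θ j = a)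
    (φ : 𝕂 → 𝕂) : ∏ j, φ (θ j) = ∏ x ∈ S, φ x := by
  have h1 : S = Finset.univ.image θ := by
    ext a
    rw [hS, Finset.mem_image]
    simp
  rw [h1, Finset.prod_image fun i _ j _ h => hθ h]

theorem pow_mem_orb {a b : 𝕂} (ha : a ≠ 0) (h : b ∈ orb a) : b ^ 𝕢 ∈ orb a := by
  obtain ⟨i, rfl⟩ := (mem_orb ha b).1 h
  rw [mem_orb ha]
  exact ⟨i + 1, by rw [pow_succ, pow_mul]⟩

theorem prod_range_pow {a : 𝕂} (d : ℕ) : ∏ i ∈ Finset.range d, a ^ 𝕢 ^ i = a ^ ∑ i ∈ Finset.range d, 𝕢 ^ i := by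
  rw [Finset.prod_pow_eq_pow_sum]

/-! ### primes -/

theorem prime_ne {p : ℕ} [hp : Fact p.Prime] [CharP F p] {r e : ℕ} (hr : r.Prime) (he : orderOf ((𝕢 : ℕ) : ZMod r) = e)
    (h1 : 0 < e) : r ≠ p := by
  rintro rfl
  have h2 : ((𝕢 : ℕ) : ZMod r) = 0 := by
    rw [ZMod.natCast_eq_zero_iff]
    obtain ⟨k, -, hk⟩ := FiniteField.card F r
    rw [hk]
    exact dvd_pow_self _ k.2.ne'
  have : Fact r.Prime := ⟨hr⟩
  rw [h2] at he
  have h3 : orderOf (0 : ZMod r) = 0 := by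
    rw [orderOf_eq_zero_iff']
    intro n hn
    rw [zero_pow hn.ne']
    exact zero_ne_one
  omega

theorem dvd_pred {p : ℕ} [hp : Fact p.Prime] [CharP F p] {r e : ℕ} (hr : r.Prime)
    (he : orderOf ((𝕢 : ℕ) : ZMod r) = e) (h1 : 0 < e) : e ∣ r - 1 := by
  have : Fact r.Prime := ⟨hr⟩
  rw [← he]
  apply ZMod.orderOf_dvd_card_sub_one
  intro h2
  rw [h2] at he
  have h3 : orderOf (0 : ZMod r) = 0 := by
    rw [orderOf_eq_zero_iff']
    intro n hn
    rw [zero_pow hn.ne']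
    exact zero_ne_one
  omega

theorem odd_of {p : ℕ} [hp : Fact p.Prime] [CharP F p] {r e : ℕ} (hr : r.Prime)
    (he : orderOf ((𝕢 : ℕ) : ZMod r) = e) (h1 : 2 ≤ e) : r ≠ 2 := by
  have h2 := dvd_pred (F := F) (p := p) hr he (by omega)
  rintro rfl
  have := Nat.le_of_dvd (by norm_num) h2
  omega

theorem sum_pow_dvd {r e : ℕ} (hr : r.Prime) (he : orderOf ((𝕢 : ℕ) : ZMod r) = e) (h1 : 2 ≤ e) :
    r ∣ ∑ i ∈ Finset.range e, 𝕢 ^ i := by
  have : Fact r.Prime := ⟨hr⟩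
  have h2 : ((𝕢 : ℕ) : ZMod r) ≠ 1 := by
    intro h
    rw [h, orderOf_one] at he
    omega
  have h3 : (∑ i ∈ Finset.range e, ((𝕢 : ℕ) : ZMod r) ^ i) * (((𝕢 : ℕ) : ZMod r) - 1) = 0 := by
    rw [geom_sum_mul, sub_eq_zero, ← he, pow_orderOf_eq_one]
  have h4 := (mul_eq_zero.1 h3).resolve_right (sub_ne_zero.2 h2)
  rw [← ZMod.natCast_eq_zero_iff]
  push_cast
  exact h4

/-! ### `m ≥ 8` -/

theorem exists_prime_elt {p : ℕ} [hp : Fact p.Prime] [CharP F p] {r e : ℕ} (hr : r.Prime)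
    (he : orderOf ((𝕢 : ℕ) : ZMod r) = e) (h1 : 2 ≤ e) :
    ∃ a : 𝕂, a ≠ 0 ∧ orderOf a = r ∧ deg a = e ∧ ∏ x ∈ orb a, x = 1 := by
  obtain ⟨a, ha0, ha⟩ := exists_orderOf (F := F) (p := p) hr.ne_zero (by
    intro h
    exact prime_ne (F := F) (p := p) hr he (by omega) ((Nat.prime_dvd_prime_iff_eq hp.out hr).1 h).symm)
  have hd : deg a = e := by
    unfold deg
    rw [ha, he]
  refine ⟨a, ha0, ha, hd, ?_⟩
  rw [prod_orb ha0 (fun x => x), prod_range_pow, hd, ← orderOf_dvd_iff_pow_eq_one, ha]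
  exact sum_pow_dvd hr he h1

/-- two coprime blocks -/
theorem mm_two {p : ℕ} [hp : Fact p.Prime] [CharP F p] {a b : ℕ} (ha3 : 3 ≤ a) (hab : a < b) (hoa : Odd a)
    (hob : Odd b) (hnd : ¬ a ∣ b) (hq : 3 ≤ 𝕢) :
    ∃ N M : GL (Fin (a + b)) F, M = N * N ∧ ¬ p ∣ orderOf M ∧
    (∃ (θ : Fin (a + b) → AlgebraicClosure F) (P : GL (Fin (a + b)) (AlgebraicClosure F)) (S : Fin (a + b) → Bool),
      (M : Matrix (Fin (a + b)) (Fin (a + b)) F).map (algebraMap F (AlgebraicClosure F)) =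
        (P : Matrix (Fin (a + b)) (Fin (a + b)) (AlgebraicClosure F)) * diagonal θ *
          ((P⁻¹ : GL (Fin (a + b)) (AlgebraicClosure F)) : Matrix (Fin (a + b)) (Fin (a + b)) (AlgebraicClosure F)) ∧
      ∏ j, (if S j then (θ j)⁻¹ else θ j) = 1) ∧ Big (Fintype.card F) (a + b) (orderOf M) := by
  obtain ⟨ra, hra, hea⟩ := exists_prim (q := 𝕢) (e := a) hq ha3
  obtain ⟨rb, hrb, heb⟩ := exists_prim (q := 𝕢) (e := b) hq (by omega)
  have hra2 := odd_of (F := F) (p := p) hra hea (by omega)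
  have hrb2 := odd_of (F := F) (p := p) hrb heb (by omega)
  have hrap := prime_ne (F := F) (p := p) hra hea (by omega)
  have hrbp := prime_ne (F := F) (p := p) hrb heb (by omega)
  have hrr : ra ≠ rb := by
    rintro rfl
    omega
  obtain ⟨α, hα0, hα, hdα, hpα⟩ := exists_prime_elt (F := F) (p := p) hra hea (by omega)
  obtain ⟨β, hβ0, hβ, hdβ, hpβ⟩ := exists_prime_elt (F := F) (p := p) hrb heb (by omega)
  have hdis : Disjoint (orb α) (orb β) := by
    rw [Finset.disjoint_left]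
    intro t h1 h2
    exact hrr (by rw [← hα, ← hβ, ← orderOf_of_mem hα0 h1, orderOf_of_mem hβ0 h2])
  obtain ⟨M, θ, P, hθ, hθS, hP⟩ := exists_gl (orb α ∪ orb β) (by
      rw [Finset.mem_union]
      rintro (h | h)
      · exact orb_ne_zero hα0 h rfl
      · exact orb_ne_zero hβ0 h rfl) (by
      intro x hx
      rw [Finset.mem_union] at hx ⊢
      rcases hx with h | h
      · exact Or.inl (pow_mem_orb hα0 h)
      · exact Or.inr (pow_mem_orb hβ0 h)) (m := a + b) (by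
      rw [Finset.card_union_of_disjoint hdis, card_orb hα0, card_orb hβ0, hdα, hdβ])
  have hord : ∀ k, M ^ k = 1 ↔ ra ∣ k ∧ rb ∣ k := by
    intro k
    rw [pow_eq_one_iff hP]
    constructor
    · intro h
      have h1 : ∀ x ∈ orb α ∪ orb β, x ^ k = 1 := by
        intro x hx
        obtain ⟨j, rfl⟩ := (hθS x).1 hx
        exact h j
      exact ⟨hα ▸ orderOf_dvd_of_pow_eq_one (h1 α (Finset.mem_union_left _ (self_mem_orb hα0))),
        hβ ▸ orderOf_dvd_of_pow_eq_one (h1 β (Finset.mem_union_right _ (self_mem_orb hβ0)))⟩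
    · rintro ⟨h1, h2⟩ j
      rw [← orderOf_dvd_iff_pow_eq_one]
      rcases Finset.mem_union.1 ((hθS (θ j)).2 ⟨j, rfl⟩) with h | h
      · rw [orderOf_of_mem hα0 h, hα]; exact h1
      · rw [orderOf_of_mem hβ0 h, hβ]; exact h2
  have ho1 : orderOf M ∣ ra * rb := orderOf_dvd_of_pow_eq_one ((hord _).2 ⟨Dvd.intro _ rfl, Dvd.intro_left _ rfl⟩)
  have ho2 := (hord (orderOf M)).1 (pow_orderOf_eq_one M)
  have hodd : Odd (orderOf M) := by
    have h1 : Odd (ra * rb) := (hra.odd_of_ne_two hra2).mul (hrb.odd_of_ne_two hrb2)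
    exact h1.of_dvd_nat ho1
  obtain ⟨N, hN⟩ := exists_sqrt hodd
  refine ⟨N, M, hN, ?_, ⟨θ, P, fun _ => false, hP, ?_⟩, ?_⟩
  · intro h
    rcases (hp.out.dvd_mul).1 (h.trans ho1) with h1 | h1
    · exact hrap ((Nat.prime_dvd_prime_iff_eq hp.out hra).1 h1).symm
    · exact hrbp ((Nat.prime_dvd_prime_iff_eq hp.out hrb).1 h1).symm
  · simp only [Bool.false_eq_true, if_false]
    rw [prod_theta hθ hθS (fun x => x), Finset.prod_union hdis, hpα, hpβ, one_mul]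
  · obtain ⟨x, hx⟩ := hoa
    obtain ⟨y, hy⟩ := hob
    exact Or.inr (Or.inl ⟨a, b, ha3, by omega, rfl, ⟨x, hx⟩, ⟨y, hy⟩, hnd, ⟨ra, hra, ho2.1, hea⟩, rb, hrb, ho2.2, heb⟩)

theorem mm_ge_eight {p : ℕ} [hp : Fact p.Prime] [CharP F p] (hp2 : p ≠ 2) {m : ℕ} (hm : 8 ≤ m) (he : Even m)
    (hq : 3 ≤ 𝕢) :
    ∃ N M : GL (Fin m) F, M = N * N ∧ ¬ p ∣ orderOf M ∧
    (∃ (θ : Fin m → AlgebraicClosure F) (P : GL (Fin m) (AlgebraicClosure F)) (S : Fin m → Bool),
      (M : Matrix (Fin m) (Fin m) F).map (algebraMap F (AlgebraicClosure F)) =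
        (P : Matrix (Fin m) (Fin m) (AlgebraicClosure F)) * diagonal θ *
          ((P⁻¹ : GL (Fin m) (AlgebraicClosure F)) : Matrix (Fin m) (Fin m) (AlgebraicClosure F)) ∧
      ∏ j, (if S j then (θ j)⁻¹ else θ j) = 1) ∧ Big (Fintype.card F) m (orderOf M) := by
  obtain ⟨k, hk⟩ := he
  rcases Nat.even_or_odd k with hk2 | hk2
  · have h1 : m = (k - 1) + (k + 1) := by omega
    rw [h1]
    obtain ⟨j, hj⟩ := hk2
    refine mm_two (by omega) (by omega) ⟨j - 1, by omega⟩ ⟨j, by omega⟩ ?_ hq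
    intro h
    have h2 : k - 1 ∣ 2 := by
      have h3 : k + 1 = (k - 1) + 2 := by omega
      rw [h3] at h
      exact (Nat.dvd_add_right dvd_rfl).1 h
    have := Nat.le_of_dvd (by norm_num) h2
    omega
  · have h1 : m = (k - 2) + (k + 2) := by omega
    rw [h1]
    obtain ⟨j, hj⟩ := hk2
    refine mm_two (by omega) (by omega) ⟨j - 1, by omega⟩ ⟨j + 1, by omega⟩ ?_ hq
    intro h
    have h2 : k - 2 ∣ 4 := by
      have h3 : k + 2 = (k - 2) + 4 := by omega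
      rw [h3] at h
      exact (Nat.dvd_add_right dvd_rfl).1 h
    have h4 := Nat.le_of_dvd (by norm_num) h2
    have h5 : k - 2 = 3 := by omega
    rw [h5] at h2
    norm_num at h2

end

end Cfsg.Agent.H45.CVN
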