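import Cfsg.Agent.H416.CV.Ev
import Cfsg.Agent.Lib.Zsigmondy

/-!
# S3442: matrices with prescribed eigenvalues (helper45)

* `exists_gl` : for a finite set `S` of nonzero elements of the algebraic closure, closed under `a ↦ a ^ q`, a matrix over `F`
  with the set of eigenvalues `S`, diagonalisable over the algebraic closure;
* `pow_eq_one_iff` : the order;
* `exists_sqrt` : the square root of an element of odd order;
* `exists_orderOf` : elements of every order prime to `p`;
* `exists_prim` : primitive prime divisors.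
-/

set_option autoImplicit false
set_option linter.unusedSectionVars false
set_option linter.unusedVariables false

namespace Cfsg.Agent.H45.CVN

open Matrix Polynomial Cfsg.Agent.H416.CV

section

variable {F : Type*} [Field F] [Fintype F]

local notation "𝕂" => AlgebraicClosure F
local notation "𝕢" => Fintype.card F

/-- the elements fixed by the Frobenius map -/
theorem mem_range_of_pow {x : 𝕂} (h : x ^ 𝕢 = x) : ∃ y : F, algebraMap F 𝕂 y = x := by
  classical
  have hq : 1 < 𝕢 := Fintype.one_lt_card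
  have hne : (X ^ 𝕢 - X : (𝕂)[X]) ≠ 0 := FiniteField.X_pow_card_sub_X_ne_zero 𝕂 hq
  have hsub : (Finset.univ.image (algebraMap F 𝕂)) ⊆ (X ^ 𝕢 - X : (𝕂)[X]).roots.toFinset := by
    intro z hz
    obtain ⟨y, -, rfl⟩ := Finset.mem_image.1 hz
    rw [Multiset.mem_toFinset, mem_roots hne, IsRoot.def, eval_sub, eval_pow, eval_X, ← map_pow, FiniteField.pow_card,
      sub_self]
  have hcard : (X ^ 𝕢 - X : (𝕂)[X]).roots.toFinset.card ≤ (Finset.univ.image (algebraMap F 𝕂)).card := by
    rw [Finset.card_image_of_injective _ (algebraMap F 𝕂).injective, Finset.card_univ]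
    refine (Multiset.toFinset_card_le _).trans ((card_roots' _).trans ?_)
    rw [FiniteField.X_pow_card_sub_X_natDegree_eq 𝕂 hq]
  have heq := Finset.eq_of_subset_of_card_le hsub hcard
  have hx : x ∈ (X ^ 𝕢 - X : (𝕂)[X]).roots.toFinset := by
    rw [Multiset.mem_toFinset, mem_roots hne, IsRoot.def, eval_sub, eval_pow, eval_X, h, sub_self]
  rw [← heq] at hx
  obtain ⟨y, -, hy⟩ := Finset.mem_image.1 hx
  exact ⟨y, hy⟩

open Classical in
/-- the polynomial with the roots `S` -/
theorem exists_poly (S : Finset 𝕂) (hS : ∀ a ∈ S, a ^ 𝕢 ∈ S) :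
    ∃ f : F[X], f.Monic ∧ f.natDegree = S.card ∧ f.map (algebraMap F 𝕂) = ∏ a ∈ S, (X - C a) := by
  obtain ⟨σ, hσ⟩ := exists_frob F
  set g : (𝕂)[X] := ∏ a ∈ S, (X - C a) with hg
  have hgm : g.Monic := monic_prod_of_monic _ _ fun a _ => monic_X_sub_C a
  have hgd : g.natDegree = S.card := by
    rw [hg, natDegree_prod_of_monic _ _ fun a _ => monic_X_sub_C a]
    simp
  have himg : S.image (fun a => σ a) = S := by
    apply Finset.eq_of_subset_of_card_le
    · intro b hb
      obtain ⟨a, ha, rfl⟩ := Finset.mem_image.1 hb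
      rw [hσ]
      exact hS a ha
    · rw [Finset.card_image_of_injective _ σ.injective]
  have hfix : g.map σ = g := by
    rw [hg, Polynomial.map_prod]
    have h1 : ∀ a ∈ S, ((X - C a : (𝕂)[X])).map σ = X - C (σ a) := fun a _ => by simp
    rw [Finset.prod_congr rfl h1]
    conv_rhs => rw [← himg]
    rw [Finset.prod_image fun a _ b _ h => σ.injective h]
  have hl : g ∈ lifts (algebraMap F 𝕂) := by
    rw [lifts_iff_coeff_lifts]
    intro i
    have h1 : σ (g.coeff i) = g.coeff i := by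
      conv_rhs => rw [← hfix]
      rw [coeff_map]
    rw [hσ] at h1
    obtain ⟨y, hy⟩ := mem_range_of_pow h1
    exact ⟨y, hy⟩
  obtain ⟨f, hf1, hf2, hf3⟩ := lifts_and_natDegree_eq_and_monic hl hgm
  exact ⟨f, hf3, hf2.trans hgd, hf1⟩

/-- a matrix with a given characteristic polynomial -/
theorem exists_mat {R : Type*} [Field R] (f : R[X]) (hf : f.Monic) {m : ℕ} (hm : f.natDegree = m) :
    ∃ A : Matrix (Fin m) (Fin m) R, A.charpoly = f := by
  subst hm
  set h := AdjoinRoot.powerBasis' hf with hh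
  have hd : h.dim = f.natDegree := AdjoinRoot.powerBasis'_dim hf
  have h1 : (Algebra.leftMulMatrix h.basis h.gen).charpoly = minpoly R h.gen := charpoly_leftMulMatrix h
  have h2 : minpoly R h.gen = f := by
    have h3 := AdjoinRoot.minpoly_powerBasis_gen_of_monic hf
    rw [AdjoinRoot.powerBasis_gen] at h3
    rw [hh, AdjoinRoot.powerBasis'_gen]
    exact h3
  refine ⟨Matrix.reindex (finCongr hd) (finCongr hd) (Algebra.leftMulMatrix h.basis h.gen), ?_⟩
  rw [Matrix.charpoly_reindex, h1, h2]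

open Classical in
/-- **matrices with prescribed eigenvalues** -/
theorem exists_gl (S : Finset 𝕂) (h0 : (0 : 𝕂) ∉ S) (hS : ∀ a ∈ S, a ^ 𝕢 ∈ S) {m : ℕ} (hm : S.card = m) :
    ∃ (M : GL (Fin m) F) (θ : Fin m → 𝕂) (P : GL (Fin m) 𝕂), Function.Injective θ ∧ (∀ a, a ∈ S ↔ ∃ j, θ j = a) ∧
      (M : Matrix (Fin m) (Fin m) F).map (algebraMap F 𝕂) =
        (P : Matrix (Fin m) (Fin m) 𝕂) * diagonal θ * ((P⁻¹ : GL (Fin m) 𝕂) : Matrix (Fin m) (Fin m) 𝕂) := by
  obtain ⟨f, hf, hfd, hfm⟩ := exists_poly S hS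
  obtain ⟨A, hA⟩ := exists_mat f hf (hfd.trans hm)
  set e : S ≃ Fin m := S.equivFinOfCardEq hm with he
  let θ : Fin m → 𝕂 := fun j => (e.symm j : 𝕂)
  have hθ : Function.Injective θ := fun i j h => e.symm.injective (Subtype.ext h)
  have hθS : ∀ a, a ∈ S ↔ ∃ j, θ j = a := by
    intro a
    constructor
    · intro ha
      exact ⟨e ⟨a, ha⟩, by simp [θ]⟩
    · rintro ⟨j, rfl⟩
      exact (e.symm j).2
  set N := A.map (algebraMap F 𝕂) with hN
  have hNc : N.charpoly = ∏ a ∈ S, (X - C a) := by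
    rw [hN, Matrix.charpoly_map, hA, hfm]
  have hev : ∀ j, Module.End.HasEigenvalue (Matrix.toLin' N) (θ j) := by
    intro j
    rw [Module.End.hasEigenvalue_iff_isRoot_charpoly, Matrix.charpoly_toLin', hNc, IsRoot.def, eval_prod]
    apply Finset.prod_eq_zero (i := θ j) ((hθS _).2 ⟨j, rfl⟩)
    simp
  choose v hv using fun j => (hev j).exists_hasEigenvector
  have hli : LinearIndependent 𝕂 v := Module.End.eigenvectors_linearIndependent' (Matrix.toLin' N) θ hθ v hv
  have hvN : ∀ j, N *ᵥ v j = θ j • v j := fun j => by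
    have := (hv j).apply_eq_smul
    rwa [Matrix.toLin'_apply] at this
  let P0 : Matrix (Fin m) (Fin m) 𝕂 := Matrix.of fun i j => v j i
  have hPu : IsUnit P0 := by
    rw [← Matrix.linearIndependent_cols_iff_isUnit]
    exact hli
  have hPN : N * P0 = P0 * diagonal θ := by
    ext i j
    rw [Matrix.mul_diagonal]
    have h1 := congrFun (hvN j) i
    rw [Matrix.mulVec, dotProduct, Pi.smul_apply, smul_eq_mul] at h1
    rw [Matrix.mul_apply]
    show ∑ k, N i k * v j k = v j i * θ j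
    rw [h1, mul_comm]
  have hAu : IsUnit A := by
    rw [Matrix.isUnit_iff_isUnit_det, isUnit_iff_ne_zero]
    intro hd
    have h1 : N.det = 0 := by
      have h2 : N.det = algebraMap F 𝕂 A.det := by
        rw [hN]
        exact ((algebraMap F 𝕂).map_det A).symm
      rw [h2, hd, map_zero]
    have h2 : N.charpoly.IsRoot 0 := by
      rw [← Matrix.charpoly_toLin', ← Module.End.hasEigenvalue_iff_isRoot_charpoly]
      have h3 := Matrix.exists_mulVec_eq_zero_iff.2 h1
      obtain ⟨w, hw0, hw⟩ := h3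
      refine Module.End.hasEigenvalue_of_hasEigenvector (x := w) ?_
      refine ⟨?_, hw0⟩
      rw [Module.End.mem_eigenspace_iff, Matrix.toLin'_apply, hw, zero_smul]
    rw [hNc, IsRoot.def, eval_prod, Finset.prod_eq_zero_iff] at h2
    obtain ⟨a, ha, ha2⟩ := h2
    rw [eval_sub, eval_X, eval_C, zero_sub, neg_eq_zero] at ha2
    exact h0 (ha2 ▸ ha)
  obtain ⟨M, hM⟩ := hAu
  obtain ⟨P, hP⟩ := hPu
  refine ⟨M, θ, P, hθ, hθS, ?_⟩
  rw [hM, ← hN, hP]
  have h3 : P0 * ((P⁻¹ : GL (Fin m) 𝕂) : Matrix (Fin m) (Fin m) 𝕂) = 1 := by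
    rw [← hP]
    exact P.mul_inv
  rw [← hPN, mul_assoc, h3, mul_one]

variable {m : ℕ}

/-- the order of a diagonalisable matrix -/
theorem pow_eq_one_iff {M : GL (Fin m) F} {θ : Fin m → 𝕂} {P : GL (Fin m) 𝕂}
    (h : (M : Matrix (Fin m) (Fin m) F).map (algebraMap F 𝕂) =
        (P : Matrix (Fin m) (Fin m) 𝕂) * diagonal θ * ((P⁻¹ : GL (Fin m) 𝕂) : Matrix (Fin m) (Fin m) 𝕂)) (k : ℕ) :
    M ^ k = 1 ↔ ∀ j, θ j ^ k = 1 := by
  have h1 : ((M : Matrix (Fin m) (Fin m) F).map (algebraMap F 𝕂)) ^ k =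
      (P : Matrix (Fin m) (Fin m) 𝕂) * diagonal (fun j => θ j ^ k) *
        ((P⁻¹ : GL (Fin m) 𝕂) : Matrix (Fin m) (Fin m) 𝕂) := by
    rw [h]
    have h2 := Units.conj_pow P (diagonal θ) k
    rw [h2, Matrix.diagonal_pow]
    rfl
  have h2 : ((M ^ k : GL (Fin m) F) : Matrix (Fin m) (Fin m) F).map (algebraMap F 𝕂) =
      ((M : Matrix (Fin m) (Fin m) F).map (algebraMap F 𝕂)) ^ k := by
    rw [Units.val_pow_eq_pow_val]
    exact map_pow (algebraMap F 𝕂).mapMatrix _ k
  constructor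
  · intro hk j
    rw [hk, h1, Units.val_one, Matrix.map_one _ (map_zero _) (map_one _)] at h2
    have h3 : (diagonal (fun j => θ j ^ k) : Matrix (Fin m) (Fin m) 𝕂) = 1 := by
      have h4 := congrArg (fun Z => ((P⁻¹ : GL (Fin m) 𝕂) : Matrix (Fin m) (Fin m) 𝕂) * Z *
        (P : Matrix (Fin m) (Fin m) 𝕂)) h2
      simp only [mul_one, ← mul_assoc, Units.inv_mul, one_mul] at h4
      rw [mul_assoc, Units.inv_mul, mul_one] at h4
      exact h4.symm
    have h5 := congrFun (congrFun h3 j) j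
    rwa [diagonal_apply_eq, one_apply_eq] at h5
  · intro hk
    apply Units.ext
    have h3 : ((M ^ k : GL (Fin m) F) : Matrix (Fin m) (Fin m) F).map (algebraMap F 𝕂) =
        (1 : Matrix (Fin m) (Fin m) F).map (algebraMap F 𝕂) := by
      rw [h2, h1, Matrix.map_one _ (map_zero _) (map_one _)]
      have h4 : (fun j => θ j ^ k) = fun _ => (1 : 𝕂) := funext hk
      rw [h4, diagonal_one, mul_one, Units.mul_inv]
    ext i j
    have h5 := congrFun (congrFun h3 i) j
    exact (algebraMap F 𝕂).injective h5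

theorem exists_sqrt {G : Type*} [Group G] {M : G} (h : Odd (orderOf M)) : ∃ N : G, M = N * N := by
  obtain ⟨k, hk⟩ := h
  refine ⟨M ^ (k + 1), ?_⟩
  rw [← pow_add]
  have h1 : k + 1 + (k + 1) = orderOf M + 1 := by omega
  rw [h1, pow_succ, pow_orderOf_eq_one, one_mul]

theorem exists_orderOf {p : ℕ} [hp : Fact p.Prime] [CharP F p] {n : ℕ} (hn : n ≠ 0) (hpn : ¬ p ∣ n) :
    ∃ a : 𝕂, a ≠ 0 ∧ orderOf a = n := by
  have hK : CharP 𝕂 p := charP_of_injective_algebraMap (algebraMap F 𝕂).injective p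
  have h1 : NeZero (n : 𝕂) := ⟨fun h => hpn ((CharP.cast_eq_zero_iff 𝕂 p n).1 h)⟩
  obtain ⟨a, ha⟩ := IsAlgClosed.exists_root (cyclotomic n 𝕂) (by
    rw [degree_cyclotomic]
    have := Nat.totient_pos.2 (Nat.pos_of_ne_zero hn)
    exact_mod_cast this.ne')
  have h2 := isRoot_cyclotomic_iff.1 ha
  exact ⟨a, h2.ne_zero hn, h2.eq_orderOf.symm⟩

/-- primitive prime divisors -/
theorem exists_prim {q e : ℕ} (hq : 3 ≤ q) (he : 3 ≤ e) : ∃ r : ℕ, r.Prime ∧ orderOf ((q : ℕ) : ZMod r) = e :=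
  Cfsg.Agent.Lib.Zsigmondy.exists_prime_orderOf (by omega) (by omega) (by omega) (by
    rintro ⟨h, -⟩; omega)

end

end Cfsg.Agent.H45.CVN
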